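import Cfsg.Agent.H224.NR.CasesL
import Cfsg.Agent.H377.NR.Rad
import Cfsg.Agent.H389.NR.DiscRange

/-!
# S3440: the reduction to good `G` and to `PSL_4(q)`, `PSU_4(q)` (helper224)

`main_cases_of` : light form, the recognition theorems and the classification facts as hypotheses.
-/

set_option autoImplicit false

namespace Cfsg.Agent.H224.NR

open Cfsg
open Cfsg.Agent.H377.NR
open Cfsg.Agent.H389.NR (Disc)

universe u v

theorem nilRad_of_iso {G : Type*} [Group G] {L : Type*} [Group L] [IsSimpleGroup L] (hG : ¬ Group.IsSolvable G)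
    (e : G ≃* L) : NilRad G := by
  have hs : IsSimpleGroup G := e.isSimpleGroup
  intro K hK hKs
  rcases hK.eq_bot_or_eq_top with h | h
  · subst h
    infer_instance
  · exfalso
    subst h
    exact hG (Group.isSolvable_of_isSolvable_injective
      (f := (Subgroup.topEquiv.symm : G ≃* (⊤ : Subgroup G)).toMonoidHom) (Subgroup.topEquiv.symm : G ≃* _).injective)

theorem main_cases_of {G : Type u} [Group G] [Finite G] (hG : ¬ Group.IsSolvable G) {L : Type v} [Group L] [Finite L]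
    [IsSimpleGroup L] (hL : ¬ IsMulCommutative L) (hA10 : ¬ Nonempty (L ≃* alternatingGroup (Fin 10)))
    (h : Set.range (orderOf : G → ℕ) = Set.range (orderOf : L → ℕ))
    (hk : IsKnownSimple' L) (h2 : 2 ∣ Nat.card L)
    (ht : Lie.IsoTits L → Disc L) (hs : IsSporadicGroup L → Disc L)
    (hdisc : Disc G → NilRad G)
    (halt : ∀ n : ℕ, 5 ≤ n → n ≠ 10 →
      Set.range (orderOf : G → ℕ) = Set.range (orderOf : alternatingGroup (Fin n) → ℕ) → NilRad G)
    (hpsl2 : ∀ (F : Type) [Field F] [Fintype F], Fintype.card F = 2 → ∀ n : ℕ, 3 ≤ n →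
      Set.range (orderOf : G → ℕ) = Set.range (orderOf : Matrix.ProjectiveSpecialLinearGroup (Fin n) F → ℕ) →
      Nonempty (G ≃* Matrix.ProjectiveSpecialLinearGroup (Fin n) F))
    (hpsl4 : ∀ (F : Type) [Field F] [Fintype F] (p : ℕ) [CharP F p], (p = 2 ∨ p = 3) →
      Set.range (orderOf : G → ℕ) = Set.range (orderOf : Matrix.ProjectiveSpecialLinearGroup (Fin 4) F → ℕ) →
      Nonempty (G ≃* Matrix.ProjectiveSpecialLinearGroup (Fin 4) F))
    (hpsu4 : ∀ (F : Type) [Field F] [Fintype F] (q : ℕ), 2 < q → (2 ∣ q ∨ 3 ∣ q ∨ q % 4 = 3) →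
      Fintype.card F = q ^ 2 → Set.range (orderOf : G → ℕ) = Set.range (orderOf : PSU 4 F q → ℕ) →
      Nonempty (G ≃* PSU 4 F q)) :
    NilRad G ∨ Good G ∨
    (∃ (F : Type) (_ : Field F) (_ : Fintype F) (p : ℕ), CharP F p ∧ 5 ≤ p ∧
      Nonempty (L ≃* Matrix.ProjectiveSpecialLinearGroup (Fin 4) F)) ∨
    (∃ (F : Type) (_ : Field F) (_ : Fintype F) (q : ℕ), Fintype.card F = q ^ 2 ∧ q % 4 = 1 ∧ ¬ 3 ∣ q ∧
      Nonempty (L ≃* PSU 4 F q)) := by
  have hiso : Nonempty (G ≃* L) → NilRad G := fun ⟨e⟩ => nilRad_of_iso hG e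
  have hr : ∀ {M : Type} [Group M], L ≃* M → Set.range (orderOf : G → ℕ) = Set.range (orderOf : M → ℕ) :=
    fun e => h.trans (range_of_equiv e)
  rcases cases_L_of hk hL h2 ht hs with ⟨n, hn, ⟨e⟩⟩ | hg | hd | ⟨F, i1, i2, n, hn, hF, ⟨e⟩⟩ | ⟨F, i1, i2, ⟨e⟩⟩ |
    ⟨F, i1, i2, q, hq, hF, ⟨e⟩⟩
  · refine Or.inl (halt n hn ?_ (hr e))
    rintro rfl
    exact hA10 ⟨e⟩
  · exact Or.inr (Or.inl ((Good.congr h).2 hg))
  · exact Or.inl (hdisc (hd.of_range h))
  · obtain ⟨f⟩ := hpsl2 F hF n (by omega) (hr e)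
    exact Or.inl (hiso ⟨f.trans e.symm⟩)
  · obtain ⟨p, hch⟩ := CharP.exists F
    have hp : p.Prime := CharP.char_is_prime F p
    by_cases hp3 : p = 2 ∨ p = 3
    · obtain ⟨f⟩ := hpsl4 F p hp3 (hr e)
      exact Or.inl (hiso ⟨f.trans e.symm⟩)
    · refine Or.inr (Or.inr (Or.inl ⟨F, i1, i2, p, hch, ?_, ⟨e⟩⟩))
      by_contra h5
      have h1 := hp.two_le
      have h4 : p ≠ 4 := by rintro rfl; exact absurd hp (by norm_num)
      omega
  · by_cases h3 : 2 ∣ q ∨ 3 ∣ q ∨ q % 4 = 3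
    · obtain ⟨f⟩ := hpsu4 F q hq h3 hF (hr e)
      exact Or.inl (hiso ⟨f.trans e.symm⟩)
    · exact Or.inr (Or.inr (Or.inr ⟨F, i1, i2, q, hF, by omega, by omega, ⟨e⟩⟩))

end Cfsg.Agent.H224.NR
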