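import Cfsg.Prelude.Def_Classification2
import Cfsg.Agent.H377.NR.Defs
import Cfsg.Agent.H618.NR.Lin
import Cfsg.Agent.H294.NR.GoodSp
import Cfsg.Agent.H583.NR.OPlus
import Cfsg.Agent.H270.NR.Minus
import Cfsg.Agent.H69.NR.E7
import Cfsg.Agent.H791.NR.Disc
import Cfsg.Agent.H291.NR.Exc
import Cfsg.Agent.S0822
import Cfsg.Agent.S0205

/-!
# S3440: the cases for the simple group `L` (helper224)

Every known nonabelian simple group is an alternating group, `Good`, has a disconnected prime graph, is `PSL_n(2)` with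
`n ≥ 5`, or is `PSL_4(q)` or `PSU_4(q)` with `q ≥ 3`.
-/

set_option autoImplicit false

namespace Cfsg.Agent.H224.NR

open Cfsg
open Cfsg.Agent.H377.NR
open Cfsg.Agent.H389.NR (Disc)

theorem cases_psl {L : Type*} [Group L] [Finite L] (h : IsPSL L) :
    Good L ∨ Disc L ∨
    (∃ (F : Type) (_ : Field F) (_ : Fintype F) (n : ℕ), 5 ≤ n ∧ Fintype.card F = 2 ∧
      Nonempty (L ≃* Matrix.ProjectiveSpecialLinearGroup (Fin n) F)) ∨
    (∃ (F : Type) (_ : Field F) (_ : Fintype F), Nonempty (L ≃* Matrix.ProjectiveSpecialLinearGroup (Fin 4) F)) := by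
  obtain ⟨F, i1, i2, n, hn, h4, he⟩ := h
  rcases Nat.lt_or_ge n 5 with h5 | h5
  · obtain rfl | rfl | rfl : n = 2 ∨ n = 3 ∨ n = 4 := by omega
    · exact Or.inr (Or.inl (H791.NR.disc_psl_two (h4 rfl) he))
    · exact Or.inr (Or.inl (H791.NR.disc_psl_three he))
    · exact Or.inr (Or.inr (Or.inr ⟨F, i1, i2, he⟩))
  · by_cases h2 : Fintype.card F = 2
    · exact Or.inr (Or.inr (Or.inl ⟨F, i1, i2, n, h5, h2, he⟩))
    · exact Or.inl (H618.NR.good_psl h5 h2 he)

theorem cases_psp {L : Type*} [Group L] [Finite L] (h : IsPSp L) : Good L ∨ Disc L := by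
  obtain ⟨F, i1, i2, n, hn, h3, he⟩ := h
  rcases hn.eq_or_lt with rfl | hn
  · exact Or.inr (H791.NR.disc_psp_two (h3 rfl) he)
  · by_cases h2 : Fintype.card F = 2 ∧ (n = 3 ∨ n = 4)
    · obtain ⟨h2, rfl | rfl⟩ := h2
      · exact Or.inr (H791.NR.disc_psp_three h2 he)
      · exact Or.inr (H791.NR.disc_psp_four h2 he)
    · exact Or.inl (H294.NR.good_psp hn h2 he)

theorem cases_psu {L : Type*} [Group L] [Finite L] (h : IsPSU L) :
    Good L ∨ Disc L ∨
    (∃ (F : Type) (_ : Field F) (_ : Fintype F) (q : ℕ), 3 ≤ q ∧ Fintype.card F = q ^ 2 ∧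
      Nonempty (L ≃* PSU 4 F q)) := by
  obtain ⟨F, i1, i2, n, q, hF, hn, h3, he⟩ := h
  have hq2 : 2 ≤ q := by
    have h1 : 2 ≤ Fintype.card F := Fintype.one_lt_card
    by_contra hq
    have : q ^ 2 ≤ 1 := Nat.pow_le_one_iff (by norm_num) |>.2 (by omega)
    omega
  rcases Nat.lt_or_ge n 5 with h5 | h5
  · obtain rfl | rfl : n = 3 ∨ n = 4 := by omega
    · exact Or.inr (Or.inl (H791.NR.disc_psu_three hF (by omega) he))
    · rcases hq2.eq_or_lt with rfl | hq
      · obtain ⟨e⟩ := he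
        obtain ⟨f⟩ := Cfsg.Agent.S0822.result (F := F) (K := ZMod 3) (by rw [hF]; norm_num) (ZMod.card 3)
        exact Or.inr (Or.inl (H791.NR.disc_psp_two (F := ZMod 3) (by rw [ZMod.card]) ⟨e.trans f⟩))
      · exact Or.inr (Or.inr ⟨F, i1, i2, q, hq, hF, he⟩)
  · exact Or.inl (H618.NR.good_psu hF h5 he)

theorem cases_oplus {L : Type*} [Group L] [Finite L] (h : IsPOmegaPlus L) : Good L ∨ Disc L := by
  obtain ⟨F, i1, i2, n, hn, he⟩ := h
  by_cases h2 : Fintype.card F = 2 ∧ n = 4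
  · obtain ⟨h2, rfl⟩ := h2
    exact Or.inr (H791.NR.disc_oplus_four h2 he)
  · exact Or.inl (H583.NR.good_oplus hn h2 he)

/-- the exceptional groups, with the Tits group as a hypothesis -/
theorem cases_exc {L : Type*} [Group L] [Finite L] (h2 : 2 ∣ Nat.card L) (ht : Lie.IsoTits L → Disc L)
    (h : IsExceptionalLieType L) : Good L ∨ Disc L := by
  rcases h with h | h | h | h | h | h | h | h | h | h | h
  · exact Or.inr (H291.NR.disc_g2 h2 h)
  · exact Or.inr (H291.NR.disc_f4 h2 h)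
  · exact Or.inr (H291.NR.disc_e6 h2 h)
  · obtain ⟨F, i1, i2, he⟩ := h
    exact Or.inl (H69.NR.good_e7 he)
  · exact Or.inr (H291.NR.disc_e8 h2 h)
  · exact Or.inr (H291.NR.disc_2e6 h2 h)
  · exact Or.inr (H291.NR.disc_3d4 h2 h)
  · exact Or.inr (H291.NR.disc_sz h2 h)
  · exact Or.inr (H291.NR.disc_ree h2 h)
  · exact Or.inr (H291.NR.disc_2f4 h2 h)
  · exact Or.inr (ht h)

theorem two_dvd_card {L : Type*} [Group L] [Finite L] [IsSimpleGroup L] (hL : ¬ IsMulCommutative L) :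
    2 ∣ Nat.card L := by
  by_contra h
  have h1 : Group.IsSolvable L := Cfsg.Agent.S0205.result (Nat.not_even_iff_odd.1 fun h2 => h h2.two_dvd)
  exact hL ⟨⟨IsSimpleGroup.comm_iff_isSolvable.2 h1⟩⟩

/-- **The cases for `L`**, with the Tits group and the sporadic groups as hypotheses. -/
theorem cases_L_of {L : Type*} [Group L] [Finite L] (hk : IsKnownSimple' L) (hL : ¬ IsMulCommutative L)
    (h2 : 2 ∣ Nat.card L) (ht : Lie.IsoTits L → Disc L) (hs : IsSporadicGroup L → Disc L) :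
    (∃ n, 5 ≤ n ∧ Nonempty (L ≃* alternatingGroup (Fin n))) ∨ Good L ∨ Disc L ∨
    (∃ (F : Type) (_ : Field F) (_ : Fintype F) (n : ℕ), 5 ≤ n ∧ Fintype.card F = 2 ∧
      Nonempty (L ≃* Matrix.ProjectiveSpecialLinearGroup (Fin n) F)) ∨
    (∃ (F : Type) (_ : Field F) (_ : Fintype F), Nonempty (L ≃* Matrix.ProjectiveSpecialLinearGroup (Fin 4) F)) ∨
    (∃ (F : Type) (_ : Field F) (_ : Fintype F) (q : ℕ), 3 ≤ q ∧ Fintype.card F = q ^ 2 ∧
      Nonempty (L ≃* PSU 4 F q)) := by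
  have hc : Good L ∨ Disc L → (∃ n, 5 ≤ n ∧ Nonempty (L ≃* alternatingGroup (Fin n))) ∨ Good L ∨ Disc L ∨
      (∃ (F : Type) (_ : Field F) (_ : Fintype F) (n : ℕ), 5 ≤ n ∧ Fintype.card F = 2 ∧
        Nonempty (L ≃* Matrix.ProjectiveSpecialLinearGroup (Fin n) F)) ∨
      (∃ (F : Type) (_ : Field F) (_ : Fintype F), Nonempty (L ≃* Matrix.ProjectiveSpecialLinearGroup (Fin 4) F)) ∨
      (∃ (F : Type) (_ : Field F) (_ : Fintype F) (q : ℕ), 3 ≤ q ∧ Fintype.card F = q ^ 2 ∧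
        Nonempty (L ≃* PSU 4 F q)) := by
    rintro (h | h)
    · exact Or.inr (Or.inl h)
    · exact Or.inr (Or.inr (Or.inl h))
  rcases hk with h | h | h | h | h | h | h | h | h | h
  · exfalso
    have : Fact (Nat.card L).Prime := ⟨h⟩
    have := isCyclic_of_prime_card (α := L) (p := Nat.card L) rfl
    exact hL ⟨⟨fun a b => IsCyclic.commGroup.mul_comm a b⟩⟩
  · exact Or.inl h
  · rcases cases_psl h with h | h | h | h
    · exact hc (Or.inl h)
    · exact hc (Or.inr h)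
    · exact Or.inr (Or.inr (Or.inr (Or.inl h)))
    · exact Or.inr (Or.inr (Or.inr (Or.inr (Or.inl h))))
  · exact hc (cases_psp h)
  · rcases cases_psu h with h | h | h
    · exact hc (Or.inl h)
    · exact hc (Or.inr h)
    · exact Or.inr (Or.inr (Or.inr (Or.inr (Or.inr h))))
  · obtain ⟨F, i1, i2, n, hn, ho, he⟩ := h
    exact hc (Or.inl (H294.NR.good_oodd hn ho he))
  · exact hc (cases_oplus h)
  · exact hc (Or.inl (H270.NR.good_ominus h))
  · exact hc (cases_exc h2 ht h)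
  · exact hc (Or.inr (hs h))

end Cfsg.Agent.H224.NR
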