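import Cfsg.Agent.H24.Simple
import Cfsg.Agent.H961.FixLin
import Cfsg.Agent.H566.Main

/-!
# Coprime outer automorphisms and the prime graph (helper224, for S3440)

`out_coprime_mod'` : `S` nonabelian simple normal in the finite group `X`, `r` a prime dividing `|X : S|` but not
`|S|`, `s` a prime divisor of `|S|`. If `X` has no element of order `r s` then `s ≡ 1 mod r`.
The classification is a hypothesis.
-/

set_option autoImplicit false

universe u

namespace Cfsg.Agent.H224.NR

open Cfsg

/-- conjugation by an element of `X` on a normal subgroup -/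
noncomputable def cj {X : Type u} [Group X] (S : Subgroup X) [S.Normal] (x : X) : MulAut ↥S := MulAut.conjNormal x

theorem cj_apply {X : Type u} [Group X] (S : Subgroup X) [S.Normal] (x : X) (y : ↥S) :
    ((cj S x y : ↥S) : X) = x * y * x⁻¹ := rfl

theorem order_mul {X : Type u} [Group X] {r s : ℕ} (hr : r.Prime) (hs : s.Prime) (hrs : r ≠ s) {x y : X}
    (hx : orderOf x = r) (hy : orderOf y = s) (h : x * y = y * x) : orderOf (x * y) = r * s := by
  have hc : Commute x y := h
  rw [hc.orderOf_mul_eq_mul_orderOf_of_coprime (by rw [hx, hy]; exact (Nat.coprime_primes hr hs).2 hrs), hx, hy]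

theorem out_coprime_mod' (known : ∀ (K : Type u) [Group K] [Finite K] [IsSimpleGroup K], IsKnownSimple' K)
    {X : Type u} [Group X] [Finite X] (S : Subgroup X) [S.Normal] (hS : IsSimpleGroup S)
    (hna : ¬ IsMulCommutative S) {r s : ℕ} (hr : r.Prime) (hs : s.Prime)
    (hri : r ∣ S.index) (hrS : ¬ r ∣ Nat.card S) (hsS : s ∣ Nat.card S) (hn : ¬ ∃ x : X, orderOf x = r * s) :
    s % r = 1 := by
  have hrs : r ≠ s := by rintro rfl; exact hrS hsS
  have : Fact r.Prime := ⟨hr⟩
  have : Fact s.Prime := ⟨hs⟩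
  -- an element of order `r`
  obtain ⟨x, hx⟩ := exists_prime_orderOf_dvd_card' r (hri.trans S.index_dvd_card)
  have hfix : ∀ y : X, y ∈ S → x * y = y * x → y ^ s = 1 → y = 1 := by
    intro y hyS hxy hys
    by_contra hy1
    exact hn ⟨x * y, order_mul hr hs hrs hx (orderOf_eq_prime hys hy1) hxy⟩
  by_cases hs2 : s = 2
  · exfalso
    subst hs2
    have hns : ¬ Group.IsSolvable ↥S := by
      intro hsol
      exact hna ⟨⟨IsSimpleGroup.comm_iff_isSolvable.2 hsol⟩⟩
    have hA : Subgroup.zpowers x ≤ Subgroup.normalizer (S : Set X) := by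
      rw [Subgroup.normalizer_eq_top]; exact le_top
    have hcop : (Nat.card ↥(Subgroup.zpowers x)).Coprime (Nat.card ↥S) := by
      rw [Nat.card_zpowers, hx]
      exact (Nat.Prime.coprime_iff_not_dvd hr).2 hrS
    have h1 := (H566.rich_sub (fun T _ _ _ => known T) hA hcop hns).2
    obtain ⟨z, hz⟩ := exists_prime_orderOf_dvd_card' 2 (even_iff_two_dvd.1 h1)
    have hzm := Subgroup.mem_inf.1 z.2
    have hz2 : (z : X) ^ 2 = 1 := by
      have h2 : z ^ 2 = 1 := by rw [← hz]; exact pow_orderOf_eq_one z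
      exact congrArg Subtype.val h2
    have hz3 := hfix z hzm.1 (Subgroup.mem_centralizer_iff.1 hzm.2 x (Subgroup.mem_zpowers x)) hz2
    have hz4 : z = 1 := Subtype.ext hz3
    rw [hz4, orderOf_one] at hz
    omega
  · have hH : H24.AutBasic.Hyp r s (cj S x) := by
      refine ⟨?_, hrS, ?_⟩
      · have h1 : (cj S x) ^ r = cj S (x ^ r) := by
          unfold cj
          rw [map_pow]
        rw [h1, ← hx, pow_orderOf_eq_one]
        unfold cj
        rw [map_one]
      · intro g hg hgs
        have h1 := congrArg Subtype.val hg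
        rw [cj_apply] at h1
        exact Subtype.ext (hfix g g.2 (mul_inv_eq_iff_eq_mul.1 h1) (congrArg Subtype.val hgs))
    have h1 : r ∣ s - 1 := by
      refine H24.Simple.simple_of hs2 ?_ ?_ known ↥S (cj S x) hH hsS ?_
      · intro K _ _ _ F _ _ n hn h4 hna h2 e α hα
        exact Cfsg.Agent.H961.FixLin.fix_psl hn h4 hna h2 e α hα
      · intro K _ _ _ F _ _ n q hF hn h32 hna h2 e α hα
        obtain ⟨E, q₀, -, h3, h4, h5⟩ := Cfsg.Agent.H961.FixLin.fix_psu hF hn h32 hna h2 e α hα
        exact ⟨E, q₀, h3, h4, h5⟩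
      · by_contra hcon
        push Not at hcon
        exact hna ⟨⟨fun a b => hcon a b⟩⟩
    obtain ⟨c, hc⟩ := h1
    have h2 := hs.two_le
    have h3 : s = 1 + r * c := by omega
    rw [h3, Nat.add_mul_mod_self_left]
    exact Nat.mod_eq_of_lt hr.one_lt

end Cfsg.Agent.H224.NR
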